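import Cfsg.Agent.H956.Co1P.Dat
import Cfsg.Agent.SporadicA.LeechMin

/-!
# The centralizer in `Co0` of the Sylow 3-subgroup of `Co2` (S5210, q = 3; helper764)

`e 1 = x(1)`, `e 2 = y(1)`, `e 4 = y(i)`, `e 3 * e 6 = z(1)`, `e 7 = u(1)`, `e 9 = u(i)` generate a Sylow 3-subgroup of `Co2`.
If `c` centralizes `V = ⟨e 1, e 2, e 4, e 3 * e 6⟩` and normalizes the cosets `e 7 V`, `e 9 V`, then `c ^ 3 = ± 1`.
-/

set_option autoImplicit false
set_option maxRecDepth 20000
set_option linter.style.longLine false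

namespace Cfsg.Agent.H764.U4

open Cfsg Cfsg.Agent.LThreeCo1.Ev Cfsg.Agent.SporadicStructure.Co0Matrix Cfsg.Agent.CoOneType.CoEval
open Cfsg.Agent.SporadicA Cfsg.Agent.H956.Co1P Subgroup

/-! ### Lattice vectors given by lists -/

/-- the vector `v` is given by the list `l` -/
structure Is (v : leechLattice) (l : List ℤ) : Prop where
  len : l.length = 24
  eq : (v : GolayPt → ℤ) = vec l

/-- sum of lists -/
def addL (l m : List ℤ) : List ℤ := List.zipWith (· + ·) l m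

/-- multiple of a list -/
def smL (k : ℤ) (l : List ℤ) : List ℤ := l.map (k * ·)

theorem length_addL {l m : List ℤ} (hl : l.length = 24) (hm : m.length = 24) : (addL l m).length = 24 := by
  simp [addL, hl, hm]

theorem length_smL (k : ℤ) (l : List ℤ) : (smL k l).length = l.length := by simp [smL]

theorem vec_addL {l m : List ℤ} (hl : l.length = 24) (hm : m.length = 24) : vec (addL l m) = vec l + vec m := by
  funext p
  have h := GolayBase.idx_lt p
  rw [Pi.add_apply, vec_apply, vec_apply, vec_apply, List.getD_eq_getElem _ _ (by rw [length_addL hl hm]; exact h),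
    List.getD_eq_getElem _ _ (by rw [hl]; exact h), List.getD_eq_getElem _ _ (by rw [hm]; exact h)]
  simp [addL]

theorem vec_smL {l : List ℤ} (hl : l.length = 24) (k : ℤ) : vec (smL k l) = k • vec l := by
  funext p
  have h := GolayBase.idx_lt p
  rw [Pi.smul_apply, smul_eq_mul, vec_apply, vec_apply, List.getD_eq_getElem _ _ (by rw [length_smL, hl]; exact h),
    List.getD_eq_getElem _ _ (by rw [hl]; exact h)]
  simp [smL]

theorem Is.add {v w : leechLattice} {l m : List ℤ} (hv : Is v l) (hw : Is w m) : Is (v + w) (addL l m) :=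
  ⟨length_addL hv.len hw.len, by rw [vec_addL hv.len hw.len, ← hv.eq, ← hw.eq]; rfl⟩

theorem Is.smul {v : leechLattice} {l : List ℤ} (hv : Is v l) (k : ℤ) : Is (k • v) (smL k l) :=
  ⟨by rw [length_smL, hv.len], by rw [vec_smL hv.len, ← hv.eq]; rfl⟩

/-- evaluation of words -/
noncomputable def ev (w : List ℕ) : Co0 := (w.map e).prod

theorem ev_append (l l' : List ℕ) : ev (l ++ l') = ev l * ev l' := by
  unfold ev; rw [List.map_append, List.prod_append]

theorem ev_eq {l l' : List ℕ} (h : eqB M l l' = true) : ev l = ev l' := eq_of_eqB rep h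

theorem length_foldZ {w : List ℕ} {l : List ℤ} (hl : l.length = 24) : (foldZ M w l).length = 24 := by
  cases w with
  | nil => exact hl
  | cons i w =>
    show (apZ (M i) _).length = 24
    rw [apZ_eq]
    exact length_ap (rep i).len _

theorem Is.app {v : leechLattice} {l : List ℤ} (hv : Is v l) (w : List ℕ) : Is ((ev w).1 v) (foldZ M w l) := by
  refine ⟨length_foldZ hv.len, ?_⟩
  rw [foldZ_eq]
  exact (fold_spec rep w hv.len.le hv.eq).2

theorem Is.unique {v w : leechLattice} {l : List ℤ} (hv : Is v l) (hw : Is w l) : v = w :=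
  Subtype.ext (hv.eq.trans hw.eq.symm)

/-- inner product -/
def B (v w : leechLattice) : ℤ := dotInt (v : GolayPt → ℤ) (w : GolayPt → ℤ)

theorem B_add_left (u v w : leechLattice) : B (u + v) w = B u w + B v w := dotInt_add_left _ _ _
theorem B_comm (v w : leechLattice) : B v w = B w v := dotInt_comm _ _
theorem B_add_right (u v w : leechLattice) : B u (v + w) = B u v + B u w := by
  rw [B_comm, B_add_left, B_comm v, B_comm w]
theorem B_neg_left (v w : leechLattice) : B (-v) w = - B v w := dotInt_neg_left _ _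
theorem B_neg_right (v w : leechLattice) : B v (-w) = - B v w := by rw [B_comm, B_neg_left, B_comm]
theorem B_add_sq (v w : leechLattice) : B (v + w) (v + w) = B v v + 2 * B v w + B w w := by
  rw [B_add_left, B_add_right, B_add_right, B_comm w v]; ring
theorem B_sub_left (u v w : leechLattice) : B (u - v) w = B u w - B v w := by
  rw [sub_eq_add_neg, B_add_left, B_neg_left]; ring
theorem B_sub_right (u v w : leechLattice) : B u (v - w) = B u v - B u w := by
  rw [sub_eq_add_neg, B_add_right, B_neg_right]; ring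
theorem B_self (v : leechLattice) : B v v = sqNorm (v : GolayPt → ℤ) := (sqNorm_eq_dot _).symm
theorem B_map (g : Co0) (v w : leechLattice) : B (g.1 v) (g.1 w) = B v w := Co0Basic.map_dot g v w
theorem B_nonneg (v : leechLattice) : 0 ≤ B v v := by
  rw [B_self]; exact Finset.sum_nonneg fun i _ => sq_nonneg _

theorem mul_app (g h : Co0) (v : leechLattice) : (g * h).1 v = g.1 (h.1 v) := rfl
theorem one_app (v : leechLattice) : (1 : Co0).1 v = v := rfl
theorem map_sub (g : Co0) (v w : leechLattice) : g.1 (v - w) = g.1 v - g.1 w := by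
  rw [sub_eq_add_neg, Co0Basic.map_add, Co0Basic.map_neg, ← sub_eq_add_neg]

theorem eq_zero_of_lt {v : leechLattice} (h : B v v < 32) : v = 0 := by
  by_contra h0
  have h1 := LeechMin.le_sqNorm v.2 (fun h => h0 (Subtype.ext h))
  rw [B_self] at h
  omega

theorem Is.B {v w : leechLattice} {l m : List ℤ} (hv : Is v l) (hw : Is w m) : B v w = dotL l m := by
  unfold U4.B
  rw [hv.eq, hw.eq]
  exact dotInt_vec _ _ hv.len.le

/-! ### The data -/

/-- the vector `b₀` -/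
def bL : List ℤ := [0, 0, 4, 0, 0, 0, 0, 0, 2, -2, 0, 0, 0, 2, -2, -2, 0, 2, -2, 0, 0, 0, -2, 0]

/-- the 27 vectors -/
def VV : List (List ℤ) := [
  [0, 0, 4, 0, 0, 0, 0, 0, 2, -2, 0, 0, 0, 2, -2, -2, 0, 2, -2, 0, 0, 0, -2, 0],
  [0, 0, -2, 0, -2, 0, 0, 0, -2, -2, 0, 0, 0, -2, 2, 0, 2, 0, 0, 2, 0, 0, 4, 0],
  [0, 0, -2, 0, 2, 0, 0, 0, 0, 4, 0, 0, 0, 0, 0, 2, -2, -2, 2, -2, 0, 0, -2, 0],
  [0, 0, -4, 0, 0, 0, 0, 0, 2, 2, 0, 0, 0, 2, -2, -2, 0, 2, -2, 0, 0, 0, 2, 0],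
  [0, 0, 2, 0, -2, 0, 0, 0, -2, 2, 0, 0, 0, -2, 2, 0, 2, 0, 0, 2, 0, 0, -4, 0],
  [0, 0, 2, 0, 2, 0, 0, 0, 0, -4, 0, 0, 0, 0, 0, 2, -2, -2, 2, -2, 0, 0, 2, 0],
  [0, 0, 0, 0, 2, 0, 0, 0, 0, 0, -2, 0, 0, 2, 2, 2, 0, 2, 0, 2, -4, 2, 0, 0],
  [0, 0, 0, 0, 0, 0, 0, 0, 2, 0, 4, 0, 0, -2, 0, -2, 2, 0, 2, -2, 2, 2, 0, 0],
  [0, 0, 0, 0, -2, 0, 0, 0, -2, 0, -2, 0, 0, 0, -2, 0, -2, -2, -2, 0, 2, -4, 0, 0],
  [0, 0, 0, 0, 0, 2, 0, -4, -2, 0, 0, 0, 0, 0, -2, 2, 2, 2, 0, -2, 0, 0, 0, 2],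
  [0, 0, 0, 0, -2, -4, 0, 2, 0, 0, 0, 0, 0, 2, 2, -2, -2, 0, 2, 0, 0, 0, 0, 2],
  [0, 0, 0, 0, 2, 2, 0, 2, 2, 0, 0, 0, 0, -2, 0, 0, 0, -2, -2, 2, 0, 0, 0, -4],
  [0, 0, 0, 0, 0, -2, 0, 4, -2, 0, 0, 0, 0, 0, -2, 2, 2, 2, 0, -2, 0, 0, 0, -2],
  [0, 0, 0, 0, -2, 4, 0, -2, 0, 0, 0, 0, 0, 2, 2, -2, -2, 0, 2, 0, 0, 0, 0, -2],
  [0, 0, 0, 0, 2, -2, 0, -2, 2, 0, 0, 0, 0, -2, 0, 0, 0, -2, -2, 2, 0, 0, 0, 4],
  [0, 0, 0, 0, 2, 0, 0, 0, 2, 0, -2, 0, 0, 0, 2, 0, 2, 2, 2, 0, 2, -4, 0, 0],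
  [0, 0, 0, 0, 0, 0, 0, 0, -2, 0, 4, 0, 0, 2, 0, 2, -2, 0, -2, 2, 2, 2, 0, 0],
  [0, 0, 0, 0, -2, 0, 0, 0, 0, 0, -2, 0, 0, -2, -2, -2, 0, -2, 0, -2, -4, 2, 0, 0],
  [3, 1, -1, -3, -1, 1, 1, 1, 1, -1, -1, 1, -3, 1, -1, 1, 1, -1, 1, 1, 1, 1, -1, 1],
  [0, -2, 2, 0, 0, -2, -2, -2, 0, 2, 2, -2, 0, 0, 0, 0, 0, 0, 0, 0, -2, -2, 2, -2],
  [-3, 1, -1, 3, 1, 1, 1, 1, -1, -1, -1, 1, 3, -1, 1, -1, -1, 1, -1, -1, 1, 1, -1, 1],
  [-3, 1, 1, -3, -1, -1, 1, -1, 1, 1, -1, 1, 3, 1, -1, 1, 1, -1, 1, 1, 1, 1, 1, -1],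
  [0, -2, -2, 0, 0, 2, -2, 2, 0, -2, 2, -2, 0, 0, 0, 0, 0, 0, 0, 0, -2, -2, -2, 2],
  [3, 1, 1, 3, 1, -1, 1, -1, -1, 1, -1, 1, -3, -1, 1, -1, -1, 1, -1, -1, 1, 1, 1, -1],
  [0, -2, 0, 0, -2, 0, -2, 0, 2, 0, 0, 4, 0, -2, 0, 2, -2, 2, 0, 0, 0, 0, 0, 0],
  [0, -2, 0, 0, 2, 0, 4, 0, -2, 0, 0, -2, 0, 0, -2, -2, 0, 0, 2, 2, 0, 0, 0, 0],
  [0, 4, 0, 0, 0, 0, -2, 0, 0, 0, 0, -2, 0, 2, 2, 0, 2, -2, -2, -2, 0, 0, 0, 0]]

/-- 24 minimal vectors -/
def WW : List (List ℤ) := [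
  [0, 0, 2, 0, 0, 0, 0, 0, 0, 2, -2, 0, 0, -2, 0, 0, 0, -2, 2, -2, 2, 0, 0, 0],
  [0, 0, 0, 2, 0, 0, -2, 0, 0, 2, -2, 0, 0, -2, -2, 0, 0, 0, 0, -2, 0, 0, -2, 0],
  [-2, 0, 0, 0, 0, 2, 0, 0, 0, 2, 0, 0, 2, 2, -2, 0, 0, 2, 0, 2, 0, 0, 0, 0],
  [0, -2, -2, 0, 0, 0, -2, 0, 0, 0, 2, 0, -2, 0, -2, 0, 0, 0, 0, 0, 0, 0, 2, -2],
  [-2, 2, 0, 0, 0, 2, 0, -2, 0, 0, 0, 0, 2, 0, 0, 0, 0, 2, -2, 0, 0, -2, 0, 0],
  [0, 0, 2, 0, 0, 0, 0, 0, 0, 0, 2, 0, 0, -2, 2, 0, 2, 0, 2, 0, 0, -2, 2, 0],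
  [0, -2, 2, 0, -2, 0, 0, 0, -2, -2, 0, 0, 2, 0, 0, -2, 0, 0, 0, 0, 0, 0, -2, 0],
  [-1, 1, 1, 1, -1, 1, 1, -1, -1, -1, -1, 1, 1, 1, 1, -1, -1, 1, -1, 1, -1, -1, 1, 3],
  [0, -4, 0, 0, 0, 0, 0, 0, 0, 0, 4, 0, 0, 0, 0, 0, 0, 0, 0, 0, 0, 0, 0, 0],
  [0, 0, 0, 0, 0, 0, 0, -4, 0, 0, 0, 0, 0, 0, 0, 0, 0, 4, 0, 0, 0, 0, 0, 0],
  [0, 0, 0, 0, 0, 0, 0, 0, 0, 0, 0, 0, 0, 0, 0, 0, 0, 4, 0, 4, 0, 0, 0, 0],
  [0, 0, 0, 0, 0, 0, 4, 0, 0, 0, 0, 0, 0, 0, 0, 0, 0, 0, 0, 0, 0, 4, 0, 0],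
  [0, 0, 0, 0, 0, 0, 0, 0, 0, 0, 4, 0, 0, 0, 0, 0, 0, 0, 0, 0, 0, 0, 4, 0],
  [0, 0, 0, 0, 0, 0, 0, 0, 0, 0, 0, 0, 0, 0, 0, 0, 0, 0, 0, 4, 4, 0, 0, 0],
  [0, 2, -2, 0, 0, 0, -2, 2, 2, 0, -2, 2, 0, 0, 0, -2, 0, 0, 0, 0, 0, 0, 0, 0],
  [0, 0, 0, 0, 0, 4, 0, 0, 0, 0, 0, 0, 0, 0, 4, 0, 0, 0, 0, 0, 0, 0, 0, 0],
  [0, 0, 0, 0, 0, 0, 0, 0, 0, 0, 0, 0, 0, 0, 0, 0, 4, 0, 0, 0, 0, 0, 4, 0],
  [0, 0, 0, 0, 0, 0, 0, 0, 0, 0, 4, 0, 0, 0, 0, 0, 0, 0, -4, 0, 0, 0, 0, 0],
  [0, 0, 0, 4, 0, 0, 0, 0, 0, 0, 0, 0, 0, 0, 0, 0, 0, 0, -4, 0, 0, 0, 0, 0],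
  [0, 0, 0, 0, 0, 0, 0, 0, 0, 2, 0, 2, 0, -2, -2, -2, 0, 0, 0, 2, 2, 0, 0, -2],
  [0, 0, 0, 0, 0, -4, 0, 0, 0, 0, 0, 0, 0, -4, 0, 0, 0, 0, 0, 0, 0, 0, 0, 0],
  [2, 2, 0, 0, 2, 0, 0, 0, -2, 0, 0, 0, -2, 2, 0, 0, 0, 0, 0, 2, 0, 2, 0, 0],
  [-2, -2, -2, 0, 0, 0, 0, 0, 0, 0, 0, 0, 2, 0, 0, 0, 0, -2, 0, 2, 2, 0, 2, 0],
  [0, 0, 2, 2, 0, 2, 0, -2, 0, 0, 0, 0, -2, -2, 0, 0, 0, 2, 0, 0, -2, 0, 0, 0]]

/-- coefficients of `beta` -/
def CC : List ℤ := [
  8370943608677984138984300962107347168542602,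
  10450236395469793955042320962197888870227984,
  -16034267419065336644143728356744469601869722,
  2786572302715510607879636148169573067079680,
  -4876751507671827120540833865391835426250760,
  18809948069760809966009107111639525822799896,
  -4951760452289426278949322752,
  1393456292541228152582272755280644312907776,
  -12893715076021025069850469506718401935503443,
  4180025978328973426485021784407619034611718,
  21961386830979771878297211372224697982717793,
  6966768422227954367846094455140700523487240,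
  -7309516527520742710546275622931687307628487,
  -14640808468068114485130275699093505721016214,
  1393456292541218249061368177553986388213760,
  -12197159687861644185751485843804858827231185,
  -9056609961744939488533956838324414745272332,
  19860653638783412703141939045338321303605211,
  -4180196119512446235837239718155440214188038,
  -2090184438811832325352209407289129191841792,
  -23697591229452676809777687717816517709176740,
  696728146270609124530684088214043274240000,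
  20911018926737158812924109932710026145906590,
  -2786572302715515559658977903527330597257220]

/-- a lattice vector from a list -/
def lv (l : List ℤ) (h : leechB l = true) : leechLattice := ⟨vec l, vec_mem_of_leechB h⟩

theorem is_lv {l : List ℤ} (h : leechB l = true) : Is (lv l h) l := by
  refine ⟨?_, rfl⟩
  simp only [leechB, Bool.and_eq_true] at h
  exact Nat.eq_of_beq_eq_true h.1.1.1

theorem bL_ok : leechB bL = true := by decide +kernel

/-- the vector `b₀` -/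
def b0 : leechLattice := lv bL bL_ok

/-- the words of the 27 vectors -/
def wn (n : ℕ) : List ℕ := List.replicate (n % 3) 1 ++ (List.replicate (n / 9) 7 ++ List.replicate (n / 3 % 3) 9)

/-- the 27 vectors -/
noncomputable def vv (n : ℕ) : leechLattice := (ev (wn n)).1 b0

theorem k_VV : ((List.range 27).all fun n => eqL (foldZ M (wn n) bL) (VV.getD n [])) = true := by decide +kernel

theorem is_vv {n : ℕ} (hn : n < 27) : Is (vv n) (VV.getD n []) := by
  have h := k_VV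
  rw [List.all_eq_true] at h
  have h1 := eqL_eq (h n (List.mem_range.2 hn))
  rw [← h1]
  exact (is_lv bL_ok).app _

/-- the standard vector -/
def e8L (p : ℕ) : List ℤ := (List.range 24).map fun j => if j = p then 8 else 0

theorem is_e8 (q : GolayPt) : Is (Co0Basic.e8 q) (e8L (GolayBase.idx q)) := by
  refine ⟨by simp [e8L], ?_⟩
  funext p
  rw [e8L, getD_range_map, Co0Basic.e8_apply]
  by_cases h : p = q
  · rw [if_pos h, if_pos (by rw [h])]
  · rw [if_neg h, if_neg (fun h' => h (GolayBase.idx_injective h'))]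

theorem B_e8 (w : leechLattice) (q : GolayPt) : B w (Co0Basic.e8 q) = 8 * (w : GolayPt → ℤ) q := by
  unfold B dotInt
  rw [Finset.sum_eq_single q]
  · rw [Co0Basic.e8_apply, if_pos rfl]; ring
  · intro j _ hj
    rw [Co0Basic.e8_apply, if_neg hj, mul_zero]
  · intro h; exact absurd (Finset.mem_univ q) h

/-- `v + g v + g² v` -/
def Nn (g : Co0) (v : leechLattice) : leechLattice := v + (g.1 v + g.1 (g.1 v))

/-- `2 v - z v - z² v` -/
noncomputable def Pz (v : leechLattice) : leechLattice :=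
  (2 : ℤ) • v + (-1 : ℤ) • ((ev [1]).1 v + (ev [1]).1 ((ev [1]).1 v))

/-- the list of `Nn` -/
def nnL (w : List ℕ) (l : List ℤ) : List ℤ := addL l (addL (foldZ M w l) (foldZ M w (foldZ M w l)))

/-- the list of `Pz` -/
def pzL (l : List ℤ) : List ℤ := addL (smL 2 l) (smL (-1) (addL (foldZ M [1] l) (foldZ M [1] (foldZ M [1] l))))

theorem Is.nn {v : leechLattice} {l : List ℤ} (hv : Is v l) (w : List ℕ) : Is (Nn (ev w) v) (nnL w l) :=
  hv.add ((hv.app w).add ((hv.app w).app w))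

theorem Is.pz {v : leechLattice} {l : List ℤ} (hv : Is v l) : Is (Pz v) (pzL l) :=
  (hv.smul 2).add (((hv.app [1]).add ((hv.app [1]).app [1])).smul (-1))

theorem k_z3 : eqB M [1, 1, 1] [] = true := by decide +kernel

theorem z3 (v : leechLattice) : (ev [1]).1 ((ev [1]).1 ((ev [1]).1 v)) = v := by
  have h : ev [1] * (ev [1] * ev [1]) = 1 := by
    rw [← ev_append, ← ev_append]
    exact ev_eq k_z3
  exact congrArg (fun g : Co0 => g.1 v) h

theorem B_Nn {g : Co0} {w : leechLattice} (h : g.1 w = w) (x : leechLattice) : B w (Nn g x) = 3 * B w x := by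
  have h1 : B w (g.1 x) = B w x := by
    conv_lhs => rw [← h]
    exact B_map g w x
  have h2 : B w (g.1 (g.1 x)) = B w x := by
    rw [← h1]
    conv_lhs => rw [← h]
    exact B_map g w _
  rw [Nn, B_add_right, B_add_right, h1, h2]; ring

theorem B_smul_right (v w : leechLattice) (k : ℤ) : B v (k • w) = k * B v w := by
  unfold B dotInt
  rw [Finset.mul_sum]
  refine Finset.sum_congr rfl fun i _ => ?_
  show (v : GolayPt → ℤ) i * ((k • w : leechLattice) : GolayPt → ℤ) i = _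
  have : ((k • w : leechLattice) : GolayPt → ℤ) i = k * (w : GolayPt → ℤ) i := by
    rw [AddSubgroup.coe_zsmul, Pi.smul_apply, smul_eq_mul]
  rw [this]; ring

theorem B_z1 (w x : leechLattice) : B w ((ev [1]).1 x) = B ((ev [1]).1 ((ev [1]).1 w)) x := by
  have h := B_map (ev [1]) ((ev [1]).1 ((ev [1]).1 w)) x
  rw [z3] at h
  exact h

theorem B_z2 (w x : leechLattice) : B w ((ev [1]).1 ((ev [1]).1 x)) = B ((ev [1]).1 w) x := by
  rw [B_z1, B_z1, z3]

theorem B_Pz (w x : leechLattice) : B w (Pz x) = B (Pz w) x := by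
  unfold Pz
  rw [B_add_right, B_smul_right, B_smul_right, B_add_right, B_z1, B_z2, B_comm _ x, B_comm (_ + _) x, B_add_right,
    B_smul_right, B_smul_right, B_add_right, B_comm x w, B_comm x _, B_comm x _]
  ring

/-! ### The plane -/

/-- combination of vectors with coefficients the coordinates `p` -/
def fr (L : List (List ℤ)) (p : ℕ) : List ℤ := L.foldr (fun v acc => addL (smL (v.getD p 0) v) acc) (List.replicate 24 0)

theorem fr_spec (L : List (List ℤ)) (hL : ∀ v ∈ L, v.length = 24) (p : ℕ) (x : GolayPt → ℤ) :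
    (fr L p).length = 24 ∧ dotInt x (vec (fr L p)) = (L.map fun v => v.getD p 0 * dotInt x (vec v)).sum := by
  induction L with
  | nil =>
    refine ⟨by simp [fr], ?_⟩
    have : vec (fr [] p) = 0 := by
      funext q
      show (List.replicate 24 (0 : ℤ)).getD _ 0 = 0
      rw [List.getD_replicate _ (GolayBase.idx_lt q)]
    rw [this]
    simp [dotInt]
  | cons v L ih =>
    obtain ⟨h1, h2⟩ := ih fun w hw => hL w (List.mem_cons_of_mem _ hw)
    have hv := hL v List.mem_cons_self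
    have h3 : (smL (v.getD p 0) v).length = 24 := by rw [length_smL, hv]
    have h4 : fr (v :: L) p = addL (smL (v.getD p 0) v) (fr L p) := rfl
    refine ⟨by rw [h4]; exact length_addL h3 h1, ?_⟩
    rw [h4, vec_addL h3 h1, vec_smL hv, List.map_cons, List.sum_cons, ← h2]
    unfold dotInt
    rw [Finset.mul_sum, ← Finset.sum_add_distrib]
    refine Finset.sum_congr rfl fun i _ => ?_
    simp only [Pi.add_apply, Pi.smul_apply, smul_eq_mul]
    ring

theorem k_E1_0 : ((List.range' 0 6).all fun p =>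
    eqL (nnL [3, 6] (nnL [1, 2, 2] (nnL [1, 4, 4] (pzL (e8L p))))) (smL 9 (fr (VV.take 3) p))) = true := by
  decide +kernel

theorem k_E1_1 : ((List.range' 6 6).all fun p =>
    eqL (nnL [3, 6] (nnL [1, 2, 2] (nnL [1, 4, 4] (pzL (e8L p))))) (smL 9 (fr (VV.take 3) p))) = true := by
  decide +kernel

theorem k_E1_2 : ((List.range' 12 6).all fun p =>
    eqL (nnL [3, 6] (nnL [1, 2, 2] (nnL [1, 4, 4] (pzL (e8L p))))) (smL 9 (fr (VV.take 3) p))) = true := by
  decide +kernel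

theorem k_E1_3 : ((List.range' 18 6).all fun p =>
    eqL (nnL [3, 6] (nnL [1, 2, 2] (nnL [1, 4, 4] (pzL (e8L p))))) (smL 9 (fr (VV.take 3) p))) = true := by
  decide +kernel

theorem k_E1 : ((List.range 24).all fun p =>
    eqL (nnL [3, 6] (nnL [1, 2, 2] (nnL [1, 4, 4] (pzL (e8L p))))) (smL 9 (fr (VV.take 3) p))) = true := by
  have h : List.range 24 = List.range' 0 6 ++ (List.range' 6 6 ++ (List.range' 12 6 ++ List.range' 18 6)) := by decide
  rw [h, List.all_append, List.all_append, List.all_append, k_E1_0, k_E1_1, k_E1_2, k_E1_3]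
  rfl

theorem k_E2 : ((List.range 24).all fun p => eqL (smL 3 (pzL (e8L p))) (fr VV p)) = true := by decide +kernel

theorem k_len : (VV.all fun v => Nat.beq v.length 24) = true := by decide +kernel

theorem len_VV {v : List ℤ} (hv : v ∈ VV) : v.length = 24 := by
  have h := k_len
  rw [List.all_eq_true] at h
  exact Nat.eq_of_beq_eq_true (h v hv)

theorem mem_VV {v : List ℤ} (hv : v ∈ VV) : ∃ n < 27, Is (vv n) v := by
  obtain ⟨n, hn, rfl⟩ := List.getElem_of_mem hv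
  have h27 : VV.length = 27 := by decide +kernel
  refine ⟨n, by rw [← h27]; exact hn, ?_⟩
  have h := is_vv (n := n) (by rw [← h27]; exact hn)
  rwa [List.getD_eq_getElem _ _ hn] at h

theorem coord {w : leechLattice} (h1 : (ev [3, 6]).1 w = w) (h2 : (ev [1, 2, 2]).1 w = w) (h3 : (ev [1, 4, 4]).1 w = w)
    (hz : w + ((ev [1]).1 w + (ev [1]).1 ((ev [1]).1 w)) = 0) (q : GolayPt) :
    72 * (w : GolayPt → ℤ) q = ((vv 0 : leechLattice) : GolayPt → ℤ) q * B w (vv 0) +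
      (((vv 1 : leechLattice) : GolayPt → ℤ) q * B w (vv 1) + ((vv 2 : leechLattice) : GolayPt → ℤ) q * B w (vv 2)) := by
  have h4 : B w (Nn (ev [3, 6]) (Nn (ev [1, 2, 2]) (Nn (ev [1, 4, 4]) (Pz (Co0Basic.e8 q))))) = 81 * (8 * (w : GolayPt → ℤ) q) := by
    have h5 : Pz w = (3 : ℤ) • w := by
      have h6 : (ev [1]).1 w + (ev [1]).1 ((ev [1]).1 w) = - w := by
        rw [eq_neg_iff_add_eq_zero, add_comm]; exact hz
      unfold Pz
      rw [h6]
      module
    rw [B_Nn h1, B_Nn h2, B_Nn h3, B_Pz, h5, B_comm, B_smul_right, B_comm, B_e8]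
    ring
  have h5 := k_E1
  rw [List.all_eq_true] at h5
  have h6 := eqL_eq (h5 _ (List.mem_range.2 (GolayBase.idx_lt q)))
  have h7 := ((((is_e8 q).pz).nn [1, 4, 4]).nn [1, 2, 2]).nn [3, 6]
  rw [h6] at h7
  have h8 := fr_spec (VV.take 3) (fun v hv => len_VV (List.mem_of_mem_take hv)) (GolayBase.idx q) (w : GolayPt → ℤ)
  have h9 : B w (Nn (ev [3, 6]) (Nn (ev [1, 2, 2]) (Nn (ev [1, 4, 4]) (Pz (Co0Basic.e8 q))))) =
      9 * dotInt (w : GolayPt → ℤ) (vec (fr (VV.take 3) (GolayBase.idx q))) := by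
    unfold B
    rw [h7.eq, vec_smL h8.1]
    unfold dotInt
    rw [Finset.mul_sum]
    refine Finset.sum_congr rfl fun i _ => ?_
    simp only [Pi.smul_apply, smul_eq_mul]
    ring
  have h10 : VV.take 3 = [VV.getD 0 [], VV.getD 1 [], VV.getD 2 []] := by decide +kernel
  have h11 : ∀ n < 3, (VV.getD n []).getD (GolayBase.idx q) 0 * dotInt (w : GolayPt → ℤ) (vec (VV.getD n [])) =
      ((vv n : leechLattice) : GolayPt → ℤ) q * B w (vv n) := by
    intro n hn
    have := is_vv (n := n) (by omega)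
    unfold B
    rw [this.eq]
    rfl
  rw [h8.2, h10] at h9
  simp only [List.map_cons, List.map_nil, List.sum_cons, List.sum_nil, add_zero] at h9
  rw [h11 0 (by norm_num), h11 1 (by norm_num), h11 2 (by norm_num), h4] at h9
  omega

theorem plane {w : leechLattice} (h1 : (ev [3, 6]).1 w = w) (h2 : (ev [1, 2, 2]).1 w = w) (h3 : (ev [1, 4, 4]).1 w = w)
    (hz : w + ((ev [1]).1 w + (ev [1]).1 ((ev [1]).1 w)) = 0) (hn : B w w = 48) :
    ∃ k < 3, w = vv k ∨ w = - vv k := by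
  have h4 : 72 * B w w = B w (vv 0) ^ 2 + (B w (vv 1) ^ 2 + B w (vv 2) ^ 2) := by
    have h5 : ∀ q : GolayPt, 72 * ((w : GolayPt → ℤ) q * (w : GolayPt → ℤ) q) =
        B w (vv 0) * ((w : GolayPt → ℤ) q * ((vv 0 : leechLattice) : GolayPt → ℤ) q) +
        (B w (vv 1) * ((w : GolayPt → ℤ) q * ((vv 1 : leechLattice) : GolayPt → ℤ) q) +
          B w (vv 2) * ((w : GolayPt → ℤ) q * ((vv 2 : leechLattice) : GolayPt → ℤ) q)) := by
      intro q
      have := coord h1 h2 h3 hz q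
      linear_combination (w : GolayPt → ℤ) q * this
    have h6 := Finset.sum_congr (rfl : (Finset.univ : Finset GolayPt) = Finset.univ) fun q _ => h5 q
    rw [← Finset.mul_sum, Finset.sum_add_distrib, Finset.sum_add_distrib, ← Finset.mul_sum, ← Finset.mul_sum, ← Finset.mul_sum] at h6
    rw [pow_two, pow_two, pow_two]
    exact h6
  have hv : ∀ k < 3, B (vv k) (vv k) = 48 := by
    intro k hk
    have h5 := is_vv (n := k) (by omega)
    rw [h5.B h5]
    interval_cases k <;> decide +kernel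
  rw [hn] at h4
  have h5 : ∃ k < 3, 34 ≤ B w (vv k) ∨ B w (vv k) ≤ -34 := by
    by_contra hcon
    push Not at hcon
    have a0 := hcon 0 (by norm_num)
    have a1 := hcon 1 (by norm_num)
    have a2 := hcon 2 (by norm_num)
    have c0 : B w (vv 0) ^ 2 ≤ 33 ^ 2 := sq_le_sq' (by linarith [a0.2]) (by linarith [a0.1])
    have c1 : B w (vv 1) ^ 2 ≤ 33 ^ 2 := sq_le_sq' (by linarith [a1.2]) (by linarith [a1.1])
    have c2 : B w (vv 2) ^ 2 ≤ 33 ^ 2 := sq_le_sq' (by linarith [a2.2]) (by linarith [a2.1])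
    omega
  obtain ⟨k, hk, h6 | h6⟩ := h5
  · refine ⟨k, hk, Or.inl ?_⟩
    have h7 : w - vv k = 0 := by
      apply eq_zero_of_lt
      rw [B_sub_left, B_sub_right, B_sub_right, hn, hv k hk, B_comm (vv k) w]
      omega
    exact sub_eq_zero.1 h7
  · refine ⟨k, hk, Or.inr ?_⟩
    have h7 : w + vv k = 0 := by
      apply eq_zero_of_lt
      rw [B_add_left, B_add_right, B_add_right, hn, hv k hk, B_comm (vv k) w]
      omega
    exact eq_neg_of_add_eq_zero_left h7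

/-! ### An element fixing the 27 vectors -/

theorem Pz_eq_zero {d : leechLattice} (hd : ∀ n < 27, B d (vv n) = 0) : Pz d = 0 := by
  apply Subtype.ext
  funext q
  have h5 := k_E2
  rw [List.all_eq_true] at h5
  have h6 := eqL_eq (h5 _ (List.mem_range.2 (GolayBase.idx_lt q)))
  have h7 := ((is_e8 q).pz).smul 3
  rw [h6] at h7
  have h8 := fr_spec VV (fun v hv => len_VV hv) (GolayBase.idx q) (d : GolayPt → ℤ)
  have h9 : B d ((3 : ℤ) • Pz (Co0Basic.e8 q)) = 0 := by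
    unfold B
    rw [h7.eq, h8.2]
    apply List.sum_eq_zero
    intro x hx
    rw [List.mem_map] at hx
    obtain ⟨v, hv, rfl⟩ := hx
    obtain ⟨n, hn, h10⟩ := mem_VV hv
    have := hd n hn
    unfold B at this
    rw [h10.eq] at this
    rw [this, mul_zero]
  rw [B_smul_right, B_Pz, B_e8] at h9
  show ((Pz d : leechLattice) : GolayPt → ℤ) q = 0
  omega

theorem fix_of_norm {c : Co0} (hz : c * ev [1] = ev [1] * c) (hb : ∀ n < 27, c.1 (vv n) = vv n) {w : leechLattice}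
    (h1 : B w w = 32) (h2 : B w ((ev [1]).1 w) = -8) : c.1 w = w := by
  have hz' : ∀ v, c.1 ((ev [1]).1 v) = (ev [1]).1 (c.1 v) := fun v => congrArg (fun g : Co0 => g.1 v) hz
  have h3 : Pz (c.1 w - w) = 0 := by
    refine Pz_eq_zero fun n hn => ?_
    rw [B_sub_left]
    conv_lhs => rw [← hb n hn]
    rw [B_map, hb n hn, sub_self]
  set d := c.1 w - w with hd
  set z := ev [1] with hzz
  have h4 : (2 : ℤ) • d = z.1 d + z.1 (z.1 d) := by
    unfold Pz at h3
    rw [← hzz] at h3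
    have : (2 : ℤ) • d + (-1 : ℤ) • (z.1 d + z.1 (z.1 d)) = 0 := h3
    rw [neg_one_zsmul, ← sub_eq_add_neg, sub_eq_zero] at this
    exact this
  have h5 : (3 : ℤ) • d = (3 : ℤ) • z.1 d := by
    have h6 := congrArg z.1 h4
    rw [Co0Basic.map_add, Co0Basic.map_zsmul, z3] at h6
    have h7 : (3 : ℤ) • d - (3 : ℤ) • z.1 d = 0 := by
      have h8 : (3 : ℤ) • d - (3 : ℤ) • z.1 d = ((2 : ℤ) • d - (2 : ℤ) • z.1 d) + (d - z.1 d) := by module
      rw [h8, h4, h6]
      module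
    exact sub_eq_zero.1 h7
  have h6 : (3 : ℤ) • d = d + (z.1 d + z.1 (z.1 d)) := by
    rw [← h4]; module
  -- the projection
  let s : leechLattice → leechLattice := fun v => v + (z.1 v + z.1 (z.1 v))
  have hs : s d = c.1 (s w) - s w := by
    show d + (z.1 d + z.1 (z.1 d)) = c.1 (w + (z.1 w + z.1 (z.1 w))) - (w + (z.1 w + z.1 (z.1 w)))
    rw [Co0Basic.map_add, Co0Basic.map_add, hz', hz', hz', hd, map_sub, map_sub]
    abel
  have a1 : B (z.1 w) (z.1 w) = 32 := by rw [B_map, h1]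
  have a2 : B (z.1 (z.1 w)) (z.1 (z.1 w)) = 32 := by rw [B_map, B_map, h1]
  have a3 : B (z.1 w) (z.1 (z.1 w)) = -8 := by rw [B_map, h2]
  have a4 : B w (z.1 (z.1 w)) = -8 := by
    rw [B_z2, B_comm, h2]
  have h7 : B (s w) (s w) = 48 := by
    show B (w + (z.1 w + z.1 (z.1 w))) (w + (z.1 w + z.1 (z.1 w))) = 48
    simp only [B_add_left, B_add_right]
    rw [h1, h2, a1, a2, a3, a4, B_comm (z.1 w) w, B_comm (z.1 (z.1 w)) w, B_comm (z.1 (z.1 w)) (z.1 w), h2, a3, a4]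
    norm_num
  have h8 : B (c.1 (s w)) (c.1 (s w)) = 48 := by rw [B_map, h7]
  have h9 : B ((3 : ℤ) • d) ((3 : ℤ) • d) = 9 * B d d := by
    rw [B_smul_right, B_comm, B_smul_right]; ring
  have h10 : B ((3 : ℤ) • d) ((3 : ℤ) • d) = 96 - 2 * B (c.1 (s w)) (s w) := by
    rw [h6]
    show B (s d) (s d) = _
    rw [hs, B_sub_left, B_sub_right, B_sub_right, h7, h8, B_comm (s w) (c.1 (s w))]
    ring
  have h11 : 0 ≤ 96 + 2 * B (c.1 (s w)) (s w) := by
    have := B_nonneg (c.1 (s w) + s w)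
    rw [B_add_sq, h7, h8] at this
    linarith
  have h12 : d = 0 := eq_zero_of_lt (by omega)
  exact sub_eq_zero.1 h12

/-- linear combination of lists -/
def comb : List ℤ → List (List ℤ) → List ℤ
  | c :: C, w :: W => addL (smL c w) (comb C W)
  | _, _ => List.replicate 24 0

theorem comb_mem (Q : AddSubgroup leechLattice) : ∀ (C : List ℤ) (W : List (List ℤ)), (∀ w ∈ W, ∃ v ∈ Q, Is v w) →
    ∃ v ∈ Q, Is v (comb C W)
  | c :: C, w :: W, h => by
    obtain ⟨v, hv, h1⟩ := h w List.mem_cons_self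
    obtain ⟨u, hu, h2⟩ := comb_mem Q C W fun x hx => h x (List.mem_cons_of_mem _ hx)
    exact ⟨c • v + u, Q.add_mem (Q.zsmul_mem hv c) hu, (h1.smul c).add h2⟩
  | [], W, _ => ⟨0, Q.zero_mem, by
      refine ⟨by simp [comb], ?_⟩
      funext q
      show 0 = (List.replicate 24 (0 : ℤ)).getD _ 0
      rw [List.getD_replicate _ (GolayBase.idx_lt q)]⟩
  | _ :: _, [], _ => ⟨0, Q.zero_mem, by
      refine ⟨by simp [comb], ?_⟩
      funext q
      show 0 = (List.replicate 24 (0 : ℤ)).getD _ 0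
      rw [List.getD_replicate _ (GolayBase.idx_lt q)]⟩

theorem k_WW : (WW.all fun w => leechB w && (decide (dotL w w = 32) && decide (dotL w (foldZ M [1] w) = -8))) = true := by
  decide +kernel

theorem k_comb : eqL (comb CC WW) betaL = true := by decide +kernel

/-- an element commuting with `e 1` and fixing the 27 vectors is trivial -/
theorem fix_one {c : Co0} (hz : c * ev [1] = ev [1] * c) (hb : ∀ n < 27, c.1 (vv n) = vv n) : c = 1 := by
  let Q : AddSubgroup leechLattice :=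
    { carrier := {v | c.1 v = v}
      zero_mem' := (Co0Basic.toHom c).map_zero
      add_mem' := fun {a b} ha hb => by
        show c.1 (a + b) = a + b
        rw [Co0Basic.map_add, show c.1 a = a from ha, show c.1 b = b from hb]
      neg_mem' := fun {a} ha => by
        show c.1 (-a) = -a
        rw [Co0Basic.map_neg, show c.1 a = a from ha] }
  obtain ⟨v, hv, h1⟩ := comb_mem Q CC WW (by
    intro w hw
    have h := k_WW
    rw [List.all_eq_true] at h
    have h2 := h w hw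
    rw [Bool.and_eq_true, Bool.and_eq_true] at h2
    have h3 := is_lv h2.1
    refine ⟨_, ?_, h3⟩
    exact fix_of_norm hz hb ((h3.B h3).trans (of_decide_eq_true h2.2.1))
      ((h3.B (h3.app [1])).trans (of_decide_eq_true h2.2.2)))
  rw [eqL_eq k_comb] at h1
  have h2 : v = beta := Subtype.ext (h1.eq.trans beta_coe.symm)
  apply eq_one_of_fix
  rw [← h2]
  exact hv

/-! ### The main result -/

/-- the elementary abelian subgroup -/
noncomputable def VS : Subgroup Co0 := closure {ev [1], ev [2], ev [4], ev [3, 6]}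

/-- every element of `VS` commutes with `e 1` and maps `b₀` to some `z^j b₀` -/
theorem VS_spec {v : Co0} (hv : v ∈ VS) : v * ev [1] = ev [1] * v ∧ ∃ j : ℕ, v.1 b0 = (ev [1] ^ j).1 b0 := by
  have k1 : (eqB M [1, 2] [2, 1] && eqB M [1, 4] [4, 1] && eqB M [1, 3, 6] [3, 6, 1]) = true := by decide +kernel
  have k2 : (eqL (foldZ M [2] bL) (foldZ M [1] bL) && eqL (foldZ M [4] bL) (foldZ M [1] bL) && eqL (foldZ M [3, 6] bL) bL) = true := by
    decide +kernel
  simp only [Bool.and_eq_true] at k1 k2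
  have ib : Is b0 bL := is_lv bL_ok
  have g2 : (ev [2]).1 b0 = (ev [1]).1 b0 := by
    have := ib.app [2]
    rw [eqL_eq k2.1.1] at this
    exact this.unique (ib.app [1])
  have g4 : (ev [4]).1 b0 = (ev [1]).1 b0 := by
    have := ib.app [4]
    rw [eqL_eq k2.1.2] at this
    exact this.unique (ib.app [1])
  have g36 : (ev [3, 6]).1 b0 = b0 := by
    have := ib.app [3, 6]
    rw [eqL_eq k2.2] at this
    exact this.unique ib
  have c2 : ev [1] * ev [2] = ev [2] * ev [1] := by rw [← ev_append, ← ev_append]; exact ev_eq k1.1.1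
  have c4 : ev [1] * ev [4] = ev [4] * ev [1] := by rw [← ev_append, ← ev_append]; exact ev_eq k1.1.2
  have c36 : ev [1] * ev [3, 6] = ev [3, 6] * ev [1] := by rw [← ev_append, ← ev_append]; exact ev_eq k1.2
  have z3' : ev [1] ^ 3 = 1 := by
    have : ev [1] * (ev [1] * ev [1]) = 1 := by
      rw [← ev_append, ← ev_append]
      exact ev_eq k_z3
    rw [pow_succ, pow_two, mul_assoc]; exact this
  refine closure_induction (p := fun v _ => v * ev [1] = ev [1] * v ∧ ∃ j : ℕ, v.1 b0 = (ev [1] ^ j).1 b0) ?_ ?_ ?_ ?_ hv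
  · rintro x (rfl | rfl | rfl | rfl)
    · exact ⟨rfl, 1, by rw [pow_one]⟩
    · exact ⟨c2.symm, 1, by rw [pow_one]; exact g2⟩
    · exact ⟨c4.symm, 1, by rw [pow_one]; exact g4⟩
    · exact ⟨c36.symm, 0, by rw [pow_zero]; exact g36⟩
  · exact ⟨by rw [one_mul, mul_one], 0, by rw [pow_zero]⟩
  · rintro x y _ _ ⟨h1, j, h2⟩ ⟨h3, k, h4⟩
    refine ⟨by rw [mul_assoc, h3, ← mul_assoc, h1, mul_assoc], j + k, ?_⟩
    rw [mul_app, h4, ← mul_app]
    have h5 : x * ev [1] ^ k = ev [1] ^ k * x := (Commute.pow_right (show Commute x (ev [1]) from h1) k).eq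
    rw [h5, mul_app, h2, ← mul_app, ← pow_add, add_comm]
  · rintro x _ ⟨h1, j, h2⟩
    refine ⟨((show Commute x (ev [1]) from h1).inv_left).eq, 2 * j, ?_⟩
    have h3 : x.1 ((ev [1] ^ (2 * j)).1 b0) = b0 := by
      rw [← mul_app]
      have h5 : x * ev [1] ^ (2 * j) = ev [1] ^ (2 * j) * x := (Commute.pow_right (show Commute x (ev [1]) from h1) _).eq
      rw [h5, mul_app, h2, ← mul_app, ← pow_add, show 2 * j + j = 3 * j by ring, pow_mul, z3', one_pow, one_app]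
    calc (x⁻¹).1 b0 = (x⁻¹).1 (x.1 ((ev [1] ^ (2 * j)).1 b0)) := by rw [h3]
      _ = (ev [1] ^ (2 * j)).1 b0 := by rw [← mul_app, inv_mul_cancel, one_app]

/-- `s` normalizes `VS` and the commutator of `c` and `s` is in `VS` -/
structure KS (c s : Co0) : Prop where
  norm : ∀ v ∈ VS, s⁻¹ * v * s ∈ VS
  com : s⁻¹ * (c * s * c⁻¹) ∈ VS
  z : s * ev [1] = ev [1] * s

theorem KS.mul {c s t : Co0} (hs : KS c s) (ht : KS c t) : KS c (s * t) where
  norm v hv := by
    have := ht.norm _ (hs.norm v hv)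
    rw [mul_inv_rev]
    simpa [mul_assoc] using this
  com := by
    have h1 := VS.mul_mem (ht.norm _ hs.com) ht.com
    have h2 : t⁻¹ * (s⁻¹ * (c * s * c⁻¹)) * t * (t⁻¹ * (c * t * c⁻¹)) = (s * t)⁻¹ * (c * (s * t) * c⁻¹) := by group
    rwa [h2] at h1
  z := by rw [mul_assoc, ht.z, ← mul_assoc, hs.z, mul_assoc]

theorem KS.one (c : Co0) : KS c 1 := ⟨fun v hv => by simpa using hv, by simp, by simp⟩

theorem KS.pow {c s : Co0} (hs : KS c s) : ∀ n : ℕ, KS c (s ^ n)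
  | 0 => by rw [pow_zero]; exact KS.one c
  | n + 1 => by rw [pow_succ]; exact (hs.pow n).mul hs

theorem conj_mem {s : Co0} (h : ∀ v ∈ ({ev [1], ev [2], ev [4], ev [3, 6]} : Set Co0), s⁻¹ * v * s ∈ VS) {v : Co0} (hv : v ∈ VS) :
    s⁻¹ * v * s ∈ VS := by
  refine closure_induction (p := fun v _ => s⁻¹ * v * s ∈ VS) h ?_ ?_ ?_ hv
  · simp
  · intro x y _ _ hx hy
    have := VS.mul_mem hx hy
    have h2 : s⁻¹ * x * s * (s⁻¹ * y * s) = s⁻¹ * (x * y) * s := by group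
    rwa [h2] at this
  · intro x _ hx
    have := VS.inv_mem hx
    have h2 : (s⁻¹ * x * s)⁻¹ = s⁻¹ * x⁻¹ * s := by group
    rwa [h2] at this

theorem of_words {g v r : List ℕ} (h : eqB M (v ++ g) (g ++ r) = true) : (ev g)⁻¹ * ev v * ev g = ev r := by
  have h1 := ev_eq h
  rw [ev_append, ev_append] at h1
  rw [mul_assoc, h1, inv_mul_cancel_left]

theorem mem_words {r : List ℕ} (h : r ∈ ([[], [1], [2], [4], [3, 6]] : List (List ℕ))) : ev r ∈ VS := by
  simp only [List.mem_cons, List.not_mem_nil, or_false] at h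
  rcases h with rfl | rfl | rfl | rfl | rfl
  · exact VS.one_mem
  · exact subset_closure (by simp)
  · exact subset_closure (by simp)
  · exact subset_closure (by simp)
  · exact subset_closure (by simp)

theorem norm7 {v : Co0} (hv : v ∈ VS) : (ev [7])⁻¹ * v * ev [7] ∈ VS := by
  have k : (eqB M ([1] ++ [7]) ([7] ++ [1]) && eqB M ([2] ++ [7]) ([7] ++ ([1] ++ [2])) && eqB M ([4] ++ [7]) ([7] ++ [4]) &&
    eqB M ([3, 6] ++ [7]) ([7] ++ ([1] ++ ([2] ++ ([2] ++ [3, 6]))))) = true := by decide +kernel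
  simp only [Bool.and_eq_true] at k
  obtain ⟨⟨⟨k1, k2⟩, k3⟩, k4⟩ := k
  refine conj_mem ?_ hv
  rintro x (rfl | rfl | rfl | rfl)
  · rw [of_words k1]; exact mem_words (by simp)
  · rw [of_words k2, ev_append]; exact VS.mul_mem (mem_words (by simp)) (mem_words (by simp))
  · rw [of_words k3]; exact mem_words (by simp)
  · rw [of_words k4, ev_append, ev_append, ev_append]
    exact VS.mul_mem (mem_words (by simp)) (VS.mul_mem (mem_words (by simp)) (VS.mul_mem (mem_words (by simp)) (mem_words (by simp))))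

theorem norm9 {v : Co0} (hv : v ∈ VS) : (ev [9])⁻¹ * v * ev [9] ∈ VS := by
  have k : (eqB M ([1] ++ [9]) ([9] ++ [1]) && eqB M ([2] ++ [9]) ([9] ++ [2]) && eqB M ([4] ++ [9]) ([9] ++ ([1] ++ [4])) &&
    eqB M ([3, 6] ++ [9]) ([9] ++ ([1] ++ ([4] ++ ([4] ++ [3, 6]))))) = true := by decide +kernel
  simp only [Bool.and_eq_true] at k
  obtain ⟨⟨⟨k1, k2⟩, k3⟩, k4⟩ := k
  refine conj_mem ?_ hv
  rintro x (rfl | rfl | rfl | rfl)
  · rw [of_words k1]; exact mem_words (by simp)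
  · rw [of_words k2]; exact mem_words (by simp)
  · rw [of_words k3, ev_append]; exact VS.mul_mem (mem_words (by simp)) (mem_words (by simp))
  · rw [of_words k4, ev_append, ev_append, ev_append]
    exact VS.mul_mem (mem_words (by simp)) (VS.mul_mem (mem_words (by simp)) (VS.mul_mem (mem_words (by simp)) (mem_words (by simp))))

/-- **Main lemma.** If `c` centralizes `V` and normalizes the cosets `e 7 V` and `e 9 V`, then `c ^ 3 = ± 1`. -/
theorem cube_eq {c : Co0} (hV : ∀ v ∈ VS, c * v = v * c) (h7 : (ev [7])⁻¹ * (c * ev [7] * c⁻¹) ∈ VS)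
    (h9 : (ev [9])⁻¹ * (c * ev [9] * c⁻¹) ∈ VS) : c ^ 3 = 1 ∨ c ^ 3 = Co0Basic.negCo0 := by
  have kz : (eqB M [7, 1] [1, 7] && eqB M [9, 1] [1, 9]) = true := by decide +kernel
  simp only [Bool.and_eq_true] at kz
  have z7 : ev [7] * ev [1] = ev [1] * ev [7] := by rw [← ev_append, ← ev_append]; exact ev_eq kz.1
  have z9 : ev [9] * ev [1] = ev [1] * ev [9] := by rw [← ev_append, ← ev_append]; exact ev_eq kz.2
  have K7 : KS c (ev [7]) := ⟨fun v hv => norm7 hv, h7, z7⟩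
  have K9 : KS c (ev [9]) := ⟨fun v hv => norm9 hv, h9, z9⟩
  have m1 : ev [1] ∈ VS := mem_words (by simp)
  have m2 : ev [2] ∈ VS := mem_words (by simp)
  have m4 : ev [4] ∈ VS := mem_words (by simp)
  have m36 : ev [3, 6] ∈ VS := mem_words (by simp)
  have hc1 := hV _ m1
  have app_c : ∀ {g : Co0} (_ : g ∈ VS) (x : leechLattice), g.1 (c.1 x) = c.1 (g.1 x) := fun {g} hg x =>
    (congrArg (fun g : Co0 => g.1 x) (hV g hg)).symm
  have z3' : ev [1] ^ 3 = 1 := by
    have : ev [1] * (ev [1] * ev [1]) = 1 := by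
      rw [← ev_append, ← ev_append]
      exact ev_eq k_z3
    rw [pow_succ, pow_two, mul_assoc]; exact this
  -- the image of `b₀`
  have ib : Is b0 bL := is_lv bL_ok
  have kb : (eqL (foldZ M [3, 6] bL) bL && eqL (foldZ M [1, 2, 2] bL) bL && eqL (foldZ M [1, 4, 4] bL) bL &&
      eqL (addL bL (addL (foldZ M [1] bL) (foldZ M [1] (foldZ M [1] bL)))) (List.replicate 24 0) && decide (dotL bL bL = 48)) = true := by
    decide +kernel
  simp only [Bool.and_eq_true] at kb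
  obtain ⟨⟨⟨⟨kb1, kb2⟩, kb3⟩, kb4⟩, kb5⟩ := kb
  have f1 : (ev [3, 6]).1 b0 = b0 := by have := ib.app [3, 6]; rw [eqL_eq kb1] at this; exact this.unique ib
  have f2 : (ev [1, 2, 2]).1 b0 = b0 := by have := ib.app [1, 2, 2]; rw [eqL_eq kb2] at this; exact this.unique ib
  have f3 : (ev [1, 4, 4]).1 b0 = b0 := by have := ib.app [1, 4, 4]; rw [eqL_eq kb3] at this; exact this.unique ib
  have f4 : b0 + ((ev [1]).1 b0 + (ev [1]).1 ((ev [1]).1 b0)) = 0 := by
    have h := ib.add ((ib.app [1]).add ((ib.app [1]).app [1]))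
    rw [eqL_eq kb4] at h
    apply Subtype.ext
    rw [h.eq]
    funext q
    show (List.replicate 24 (0 : ℤ)).getD _ 0 = 0
    rw [List.getD_replicate _ (GolayBase.idx_lt q)]
  have f5 : B b0 b0 = 48 := (ib.B ib).trans (of_decide_eq_true kb5)
  have m122 : ev [1, 2, 2] ∈ VS := by
    have h : ev [1, 2, 2] = ev [1] * (ev [2] * ev [2]) := by rw [← ev_append, ← ev_append]; rfl
    rw [h]; exact VS.mul_mem m1 (VS.mul_mem m2 m2)
  have m144 : ev [1, 4, 4] ∈ VS := by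
    have h : ev [1, 4, 4] = ev [1] * (ev [4] * ev [4]) := by rw [← ev_append, ← ev_append]; rfl
    rw [h]; exact VS.mul_mem m1 (VS.mul_mem m4 m4)
  obtain ⟨k, hk, hkb⟩ : ∃ k < 3, c.1 b0 = vv k ∨ c.1 b0 = - vv k := by
    refine plane ?_ ?_ ?_ ?_ ?_
    · rw [app_c m36, f1]
    · rw [app_c m122, f2]
    · rw [app_c m144, f3]
    · rw [app_c m1, app_c m1, ← Co0Basic.map_add, ← Co0Basic.map_add, f4]
      exact (Co0Basic.toHom c).map_zero
    · rw [B_map, f5]
  have hvk : vv k = (ev [1] ^ k).1 b0 := by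
    unfold vv wn
    interval_cases k <;> rfl
  -- a sign
  obtain ⟨ε, hε, hεc, hεb⟩ : ∃ ε : Co0, (ε = 1 ∨ ε = Co0Basic.negCo0) ∧ (∀ g : Co0, ε * g = g * ε) ∧
      c.1 b0 = (ε * ev [1] ^ k).1 b0 := by
    rcases hkb with h | h
    · exact ⟨1, Or.inl rfl, fun g => by rw [one_mul, mul_one], by rw [h, hvk, one_mul]⟩
    · refine ⟨Co0Basic.negCo0, Or.inr rfl, fun g => ?_, ?_⟩
      · exact (Subgroup.mem_center_iff.1 Co0Basic.negCo0_mem_center g).symm
      · rw [h, hvk, mul_app, Co0Basic.negCo0_apply]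
  have hε2 : ε * ε = 1 := by
    rcases hε with rfl | rfl
    · exact one_mul 1
    · apply Subtype.ext
      ext1 v
      show Co0Basic.negCo0.1 (Co0Basic.negCo0.1 v) = v
      rw [Co0Basic.negCo0_apply, Co0Basic.negCo0_apply, neg_neg]
  -- action on the images of `b₀`
  have key : ∀ s : Co0, KS c s → (c ^ 3).1 (s.1 b0) = ε.1 (s.1 b0) := by
    intro s hs
    obtain ⟨j, hj⟩ := (VS_spec hs.com).2
    have h1 : c.1 (s.1 b0) = (ε * ev [1] ^ (k + j)).1 (s.1 b0) := by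
      have h2 : c * s = s * (s⁻¹ * (c * s * c⁻¹)) * c := by group
      have hz : ∀ n : ℕ, s * ev [1] ^ n = ev [1] ^ n * s := fun n => (Commute.pow_right (show Commute s (ev [1]) from hs.z) n).eq
      have hv1 := (VS_spec hs.com).1
      have hv2 : (s⁻¹ * (c * s * c⁻¹)) * ev [1] ^ k = ev [1] ^ k * (s⁻¹ * (c * s * c⁻¹)) :=
        (Commute.pow_right (show Commute _ (ev [1]) from hv1) k).eq
      rw [← mul_app, h2, mul_app, hεb, ← mul_app]
      have h3 : s * (s⁻¹ * (c * s * c⁻¹)) * (ε * ev [1] ^ k) = ε * ev [1] ^ k * s * (s⁻¹ * (c * s * c⁻¹)) := by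
        rw [← mul_assoc, ← hεc, mul_assoc, mul_assoc, hv2, ← mul_assoc s, hz]
        simp only [mul_assoc]
      rw [h3, mul_app, hj, ← mul_app, ← mul_app]
      congr 2
      rw [mul_assoc, hz, ← mul_assoc, mul_assoc ε, ← pow_add]
    have hcm : ∀ n : ℕ, c * ev [1] ^ n = ev [1] ^ n * c := fun n => (Commute.pow_right (show Commute c (ev [1]) from hc1) n).eq
    have h2 : ∀ n : ℕ, (c ^ n).1 (s.1 b0) = (ε ^ n * ev [1] ^ (n * (k + j))).1 (s.1 b0) := by
      intro n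
      induction n with
      | zero => simp
      | succ n ih =>
        rw [pow_succ', mul_app, ih, ← mul_app]
        have h4 : c * (ε ^ n * ev [1] ^ (n * (k + j))) = ε ^ n * ev [1] ^ (n * (k + j)) * c := by
          rw [← mul_assoc, ((show Commute ε c from hεc c).pow_left n).eq.symm, mul_assoc, hcm, mul_assoc]
        rw [h4, mul_app, h1, ← mul_app]
        congr 2
        rw [mul_assoc, ← mul_assoc (ev [1] ^ _) ε, ← hεc, mul_assoc ε, ← pow_add, ← mul_assoc, ← pow_succ]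
        congr 2
        ring
    rw [h2 3, mul_comm 3 (k + j), mul_comm (k + j) 3, pow_mul, z3', one_pow, mul_one]
    congr 2
    rw [pow_succ, pow_two, hε2, one_mul]
  have h10 : ε * c ^ 3 = 1 := by
    refine fix_one ?_ ?_
    · have : c ^ 3 * ev [1] = ev [1] * c ^ 3 := ((show Commute c (ev [1]) from hc1).pow_left 3).eq
      rw [mul_assoc, this, ← mul_assoc, hεc, mul_assoc]
    · intro n hn
      have h11 : KS c (ev (wn n)) := by
        have h12 : ev (wn n) = ev [1] ^ (n % 3) * (ev [7] ^ (n / 9) * ev [9] ^ (n / 3 % 3)) := by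
          unfold wn
          rw [ev_append, ev_append]
          unfold ev
          simp only [List.map_replicate, List.prod_replicate, List.map_cons, List.map_nil, List.prod_cons, List.prod_nil, mul_one]
        rw [h12]
        refine KS.mul (KS.pow ⟨fun v hv => ?_, ?_, rfl⟩ _) ((K7.pow _).mul (K9.pow _))
        · rw [mul_assoc, (VS_spec hv).1, inv_mul_cancel_left]; exact hv
        · rw [hc1, mul_inv_cancel_right, inv_mul_cancel]; exact VS.one_mem
      show (ε * c ^ 3).1 ((ev (wn n)).1 b0) = (ev (wn n)).1 b0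
      rw [mul_app, key _ h11, ← mul_app, hε2, one_app]
  have h11 : c ^ 3 = ε := by
    calc c ^ 3 = ε * (ε * c ^ 3) := by rw [← mul_assoc, hε2, one_mul]
      _ = ε := by rw [h10, mul_one]
  rw [h11]
  exact hε

/-- If `g` and `h` induce `α` and `β` on the Sylow subgroup and `β⁻¹ α` is trivial on `V` and on `S/V`, then
`(h⁻¹ g) ^ 3 = ± 1`. -/
theorem cube_of_real {P : Type*} [Group P] (φ : P →* Co0) {W : Subgroup P} (hW : W.map φ = VS)
    (h7 : ev [7] ∈ φ.range) (h9 : ev [9] ∈ φ.range) {α β : P → P} {g h : Co0} (hg : ∀ x, φ (α x) = g * φ x * g⁻¹)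
    (hh : ∀ x, φ (β x) = h * φ x * h⁻¹) (hαW : ∀ x ∈ W, α x = β x) (hx : ∀ x, ∃ w ∈ W, α x = β (x * w)) :
    (h⁻¹ * g) ^ 3 = 1 ∨ (h⁻¹ * g) ^ 3 = Co0Basic.negCo0 := by
  have h1 : ∀ x, ∃ w ∈ W, (h⁻¹ * g) * φ x * (h⁻¹ * g)⁻¹ = φ (x * w) := by
    intro x
    obtain ⟨w, hw, hw1⟩ := hx x
    refine ⟨w, hw, ?_⟩
    have h2 := hg x
    rw [hw1, hh] at h2
    have h3 : (h⁻¹ * g) * φ x * (h⁻¹ * g)⁻¹ = h⁻¹ * (g * φ x * g⁻¹) * h := by group
    rw [h3, ← h2]
    group
  have h2 : ∀ y ∈ φ.range, y⁻¹ * ((h⁻¹ * g) * y * (h⁻¹ * g)⁻¹) ∈ VS := by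
    rintro _ ⟨x, rfl⟩
    obtain ⟨w, hw, hw1⟩ := h1 x
    rw [hw1, map_mul, inv_mul_cancel_left, ← hW]
    exact Subgroup.mem_map_of_mem φ hw
  refine cube_eq (fun v hv => ?_) (h2 _ h7) (h2 _ h9)
  rw [← hW] at hv
  obtain ⟨x, hx1, rfl⟩ := hv
  have h3 : (h⁻¹ * g) * φ x * (h⁻¹ * g)⁻¹ = φ x := by
    have h4 := hg x
    rw [hαW x hx1, hh] at h4
    have h5 : (h⁻¹ * g) * φ x * (h⁻¹ * g)⁻¹ = h⁻¹ * (g * φ x * g⁻¹) * h := by group
    rw [h5, ← h4]
    group
  rwa [mul_inv_eq_iff_eq_mul] at h3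

end Cfsg.Agent.H764.U4
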