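import Cfsg.Agent.H264.U4.Grps
import Cfsg.Agent.H764.U4.Cent

/-!
# S5210, `q = 3`: in `U₆(2)` and `McL` no element inverts `V` and centralizes `S/V` (helper764)

`neg_pB`, `neg_pC` are `H936.P4.Neg pB`, `H936.P4.Neg pC` unfolded. The element `g4` (resp. `k3`) of `Co0` inverts `V`,
centralizes `S/V` and exchanges `f1, f7` (resp. `f0, f10`); if `g` in the group did the same, `c = g4⁻¹ g` would centralize `V` and
`S/V`, so `c ^ 3 = ± 1` (`cube_eq`), but `c ^ 3` maps `f1` to `f7` (resp. `f0` to `f10`).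
-/

set_option autoImplicit false
set_option maxRecDepth 20000
set_option linter.style.longLine false

namespace Cfsg.Agent.H764.U4

open Cfsg Cfsg.Agent.LThreeCo1.Ev Cfsg.Agent.SporadicStructure.Co0Matrix Cfsg.Agent.CoOneType.CoEval
open Cfsg.Agent.H776.Co Cfsg.Agent.H956.Co1P Cfsg.Agent.H264.U4
open Cfsg.Agent.H264.U4.M6

theorem ph_word {s k0 k1 : ZMod 3} {x : M6} {w : List ℕ} (h : wd s k0 k1 x = w) : ph s k0 k1 x = ev w := by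
  rw [← wd_prod, h]; rfl

theorem r0_mul {x y : M6} (h0 : y.r0 = x.r0) (h1 : y.r1 = x.r1) : x⁻¹ * y ∈ MV := by
  constructor
  · rw [mul_r0, inv_r0, h0, neg_add_cancel]
  · rw [mul_r1, inv_r1, h1, neg_add_cancel]

/-- the images of the elements of `V` -/
theorem map_MV (s k0 k1 : ZMod 3) : MV.map (ph s k0 k1) = VS := by
  have e1 : ∀ s k0 k1 : ZMod 3, wd s k0 k1 (rt 2 1) = [1] := by decide
  have e2 : ∀ s k0 k1 : ZMod 3, wd s k0 k1 (rt 3 1) = [2] := by decide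
  have e4 : ∀ s k0 k1 : ZMod 3, wd s k0 k1 (rt 4 1) = [4] := by decide
  have e5 : ∀ s k0 k1 : ZMod 3, wd s k0 k1 (⟨0, 0, -s, 0, 0, 1⟩ : M6) = [3, 6] := by decide
  have hm : ∀ (i : Fin 6), i ≠ 0 → i ≠ 1 → rt i 1 ∈ MV := by
    intro i h0 h1
    fin_cases i
    · exact absurd rfl h0
    · exact absurd rfl h1
    · exact ⟨rfl, rfl⟩
    · exact ⟨rfl, rfl⟩
    · exact ⟨rfl, rfl⟩
    · exact ⟨rfl, rfl⟩
  have i1 : ev [1] ∈ MV.map (ph s k0 k1) := ⟨rt 2 1, hm 2 (by decide) (by decide), ph_word (e1 s k0 k1)⟩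
  have i2 : ev [2] ∈ MV.map (ph s k0 k1) := ⟨rt 3 1, hm 3 (by decide) (by decide), ph_word (e2 s k0 k1)⟩
  have i4 : ev [4] ∈ MV.map (ph s k0 k1) := ⟨rt 4 1, hm 4 (by decide) (by decide), ph_word (e4 s k0 k1)⟩
  have i5 : ev [3, 6] ∈ MV.map (ph s k0 k1) := ⟨⟨0, 0, -s, 0, 0, 1⟩, ⟨rfl, rfl⟩, ph_word (e5 s k0 k1)⟩
  apply le_antisymm
  · rw [Subgroup.map_le_iff_le_comap]
    intro x hx
    refine mem_of_rt (R := VS.comap (ph s k0 k1)) fun i => ?_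
    have j1 : ph s k0 k1 (rt 2 1) ∈ VS := by
      rw [ph_word (e1 s k0 k1)]; exact mem_words (by decide)
    fin_cases i
    · exact Or.inl hx.1
    · exact Or.inl hx.2
    · exact Or.inr j1
    · refine Or.inr (?_ : ph s k0 k1 (rt 3 1) ∈ VS)
      rw [ph_word (e2 s k0 k1)]; exact mem_words (by decide)
    · refine Or.inr (?_ : ph s k0 k1 (rt 4 1) ∈ VS)
      rw [ph_word (e4 s k0 k1)]; exact mem_words (by decide)
    · refine Or.inr (?_ : ph s k0 k1 (rt 5 1) ∈ VS)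
      have h1 : rt 5 1 = (⟨0, 0, -s, 0, 0, 1⟩ : M6) * rt 2 s := by
        ext <;> simp [rt]
      rw [h1, map_mul, ph_word (e5 s k0 k1)]
      exact VS.mul_mem (mem_words (by decide)) (rt_mem (R := VS.comap (ph s k0 k1)) (i := 2) s (Or.inr j1))
  · show Subgroup.closure _ ≤ _
    rw [Subgroup.closure_le]
    rintro v hv
    simp only [Set.mem_insert_iff, Set.mem_singleton_iff] at hv
    rcases hv with rfl | rfl | rfl | rfl
    · exact i1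
    · exact i2
    · exact i4
    · exact i5

theorem range7 (s k0 k1 : ZMod 3) : ev [7] ∈ (ph s k0 k1).range := by
  have h : ∀ s k0 k1 : ZMod 3, wd s k0 k1 (⟨1, 0, 2 * k0, -k0, -k1, 0⟩ : M6) = [7] := by decide
  exact ⟨_, ph_word (h s k0 k1)⟩

theorem range9 (s k0 k1 : ZMod 3) : ev [9] ∈ (ph s k0 k1).range := by
  have h : ∀ s k0 k1 : ZMod 3, wd s k0 k1 (⟨0, 1, -(2 * k0), -k1, k0, 0⟩ : M6) = [9] := by decide
  exact ⟨_, ph_word (h s k0 k1)⟩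

/-- `tor(1, -1, 1)` inverts `V`, centralizes `S/V` and has order 2 -/
theorem tor_inv {x : M6} (h0 : x.r0 = 0) (h1 : x.r1 = 0) : tor 1 0 (-1) 1 x = x⁻¹ := by
  ext <;> simp [M6.tor, h0, h1]

theorem tor_tor (x : M6) : tor 1 0 (-1) 1 (tor 1 0 (-1) 1 x) = x := by
  ext <;> simp [M6.tor]

/-- an element `g` inverting `V` and centralizing `S/V` is congruent to `h` modulo an element of order dividing `6` -/
theorem cube_of_inv {s k0 k1 : ZMod 3} {h g : Co0} (hh : ∀ x, ph s k0 k1 (tor 1 0 (-1) 1 x) = h * ph s k0 k1 x * h⁻¹)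
    (h1 : ∀ x : M6, x.r0 = 0 → x.r1 = 0 → g * ph s k0 k1 x * g⁻¹ = ph s k0 k1 x⁻¹)
    (h2 : ∀ x : M6, ∃ y : M6, y.r0 = x.r0 ∧ y.r1 = x.r1 ∧ g * ph s k0 k1 x * g⁻¹ = ph s k0 k1 y) :
    (h⁻¹ * g) ^ 3 = 1 ∨ (h⁻¹ * g) ^ 3 = Cfsg.Agent.SporadicA.Co0Basic.negCo0 := by
  have key : ∀ {x y : M6}, g * ph s k0 k1 x * g⁻¹ = ph s k0 k1 y →
      (h⁻¹ * g) * ph s k0 k1 x * (h⁻¹ * g)⁻¹ = ph s k0 k1 (tor 1 0 (-1) 1 y) := by
    intro x y hxy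
    have h3 : (h⁻¹ * g) * ph s k0 k1 x * (h⁻¹ * g)⁻¹ = h⁻¹ * (g * ph s k0 k1 x * g⁻¹) * h := by group
    rw [h3, hxy]
    have h4 := hh (tor 1 0 (-1) 1 y)
    rw [tor_tor] at h4
    rw [h4]
    group
  have h5 : ∀ y ∈ (ph s k0 k1).range, y⁻¹ * ((h⁻¹ * g) * y * (h⁻¹ * g)⁻¹) ∈ VS := by
    rintro _ ⟨x, rfl⟩
    obtain ⟨y, hy0, hy1, hy⟩ := h2 x
    rw [key hy, ← map_inv, ← map_mul, ← map_MV s k0 k1]
    refine Subgroup.mem_map_of_mem _ (r0_mul ?_ ?_)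
    · rw [← hy0]; simp [M6.tor]
    · rw [← hy1]; simp [M6.tor]
  refine cube_eq (fun v hv => ?_) (h5 _ (range7 s k0 k1)) (h5 _ (range9 s k0 k1))
  rw [← map_MV s k0 k1] at hv
  obtain ⟨x, ⟨hx0, hx1⟩, rfl⟩ := hv
  have h6 := key (h1 x hx0 hx1)
  rw [← tor_inv hx0 hx1, tor_tor, mul_inv_eq_iff_eq_mul] at h6
  exact h6

theorem ne_of_swap {h g : Co0} {v w : leechLattice} (hv : g.1 v = v) (hw : g.1 w = w) (hvw : h.1 v = w) (hwv : h.1 w = v)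
    (h1 : w ≠ v) (h2 : w ≠ -v) : ¬ ((h⁻¹ * g) ^ 3 = 1 ∨ (h⁻¹ * g) ^ 3 = Cfsg.Agent.SporadicA.Co0Basic.negCo0) := by
  have c1 : (h⁻¹ * g).1 v = w := by rw [mul_ap, hv]; exact inv_ap hwv
  have c2 : (h⁻¹ * g).1 w = v := by rw [mul_ap, hw]; exact inv_ap hvw
  have c3 : ((h⁻¹ * g) ^ 3).1 v = w := by
    rw [pow_succ, pow_two, mul_ap, mul_ap, c1, c2, c1]
  rintro (h3 | h3)
  · rw [h3] at c3
    exact h1 c3.symm
  · rw [h3, Cfsg.Agent.SporadicA.Co0Basic.negCo0_apply] at c3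
    exact h2 c3.symm

theorem f7_ne : f7 ≠ f1 ∧ f7 ≠ -f1 := by
  constructor
  · exact f1_ne_f7.symm
  · intro h
    have h1 := congrArg (fun u : leechLattice => (u : GolayPt → ℤ) (some 2)) h
    have h2 : (f7 : GolayPt → ℤ) (some 2) = -(f1 : GolayPt → ℤ) (some 2) := h1
    rw [f7_eq, f1_eq] at h2
    exact absurd h2 (by decide +kernel)

theorem f10_ne : f10 ≠ f0 ∧ f10 ≠ -f0 := by
  constructor
  · exact f0_ne_f10.symm
  · intro h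
    have h1 := congrArg (fun u : leechLattice => (u : GolayPt → ℤ) (some 1)) h
    have h2 : (f10 : GolayPt → ℤ) (some 1) = -(f0 : GolayPt → ℤ) (some 1) := h1
    rw [f10_eq, f0_eq] at h2
    exact absurd h2 (by decide +kernel)

/-- `U₆(2)`: `H936.P4.Neg pB` -/
theorem neg_pB : ¬ ∃ g : GB, (∀ x : M6, x.r0 = 0 → x.r1 = 0 → g * pB x * g⁻¹ = pB x⁻¹) ∧
    ∀ x : M6, ∃ y : M6, y.r0 = x.r0 ∧ y.r1 = x.r1 ∧ g * pB x * g⁻¹ = pB y := by
  rintro ⟨g, h1, h2⟩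
  have hg := g.2
  refine ne_of_swap (h := g4) (g := (g : Co0)) hg.2.1 hg.2.2 g4_f1 g4_f7 f7_ne.1 f7_ne.2 (cube_of_inv r4 ?_ ?_)
  · intro x hx0 hx1
    exact congrArg Subtype.val (h1 x hx0 hx1)
  · intro x
    obtain ⟨y, hy0, hy1, hy⟩ := h2 x
    exact ⟨y, hy0, hy1, congrArg Subtype.val hy⟩

/-- `McL`: `H936.P4.Neg pC` -/
theorem neg_pC : ¬ ∃ g : GC, (∀ x : M6, x.r0 = 0 → x.r1 = 0 → g * pC x * g⁻¹ = pC x⁻¹) ∧
    ∀ x : M6, ∃ y : M6, y.r0 = x.r0 ∧ y.r1 = x.r1 ∧ g * pC x * g⁻¹ = pC y := by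
  rintro ⟨g, h1, h2⟩
  have hg := g.2
  refine ne_of_swap (h := k3) (g := (g : Co0)) hg.1 hg.2 k3_f0 k3_f10 f10_ne.1 f10_ne.2 (cube_of_inv q3 ?_ ?_)
  · intro x hx0 hx1
    exact congrArg Subtype.val (h1 x hx0 hx1)
  · intro x
    obtain ⟨y, hy0, hy1, hy⟩ := h2 x
    exact ⟨y, hy0, hy1, congrArg Subtype.val hy⟩

end Cfsg.Agent.H764.U4
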